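import Mathlib

/-!
A complete module which is flat modulo every power of an ideal is flat (Noetherian ring).
-/

set_option autoImplicit false
set_option linter.style.haveILetI false

universe u

namespace Groth.Agent.FlatCompletionLib

open Submodule

variable {A : Type u} [CommRing A] (J : Ideal A) {N : Type u} [AddCommGroup N] [Module A N]

/-- All levels of `N` along `J` are flat. -/
def LevelsFlat (N : Type u) [AddCommGroup N] [Module A N] : Prop :=
  ∀ n, 0 < n → ∃ (Q : Type u) (_ : CommRing Q) (π : A →+* Q) (P : Type u) (_ : AddCommGroup P) (_ : Module Q P)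
    (σ : N →ₛₗ[π] P), Function.Surjective π ∧ RingHom.ker π = J ^ n ∧ Function.Surjective σ ∧
      (∀ x, σ x = 0 ↔ x ∈ (J ^ n • ⊤ : Submodule A N)) ∧ Module.Flat Q P

theorem pi_mem_smul_top {s : ℕ} {K : Ideal A} {v : Fin s → A} (h : ∀ i, v i ∈ K) :
    v ∈ (K • ⊤ : Submodule A (Fin s → A)) := by
  rw [pi_eq_sum_univ' v]
  exact sum_mem fun i _ => smul_mem_smul (h i) trivial

theorem apply_mem_of_pi_smul_top {s : ℕ} {K : Ideal A} {v : Fin s → A}
    (h : v ∈ (K • ⊤ : Submodule A (Fin s → A))) (i : Fin s) : v i ∈ K := by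
  refine smul_induction_on h (fun r hr x _ => ?_) fun x y hx hy => K.add_mem hx hy
  exact K.mul_mem_right _ hr

variable [IsNoetherianRing A]

/-- Vectors almost killed by a matrix are combinations of kernel vectors, up to a shift. -/
theorem approx_kernel (hlev : LevelsFlat J N) {s t : ℕ} (W : Fin s → Fin t → A) :
    ∃ c, ∀ n (u : Fin t → N), (∀ i, ∑ j, W i j • u j ∈ (J ^ n • ⊤ : Submodule A N)) →
      ∃ (k : ℕ) (κ : Fin k → Fin t → A) (y : Fin k → N), (∀ l i, ∑ j, W i j * κ l j = 0) ∧
        ∀ j, u j - ∑ l, κ l j • y l ∈ (J ^ (n - c) • ⊤ : Submodule A N) := by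
  classical
  let Wl : (Fin t → A) →ₗ[A] (Fin s → A) := Matrix.mulVecLin W
  obtain ⟨c, hc⟩ := J.exists_pow_inf_eq_pow_smul (LinearMap.range Wl)
  refine ⟨c, fun n u hu => ?_⟩
  rcases le_or_gt n c with hn | hn
  · refine ⟨0, Fin.elim0, Fin.elim0, fun l => l.elim0, fun j => ?_⟩
    rw [Nat.sub_eq_zero_of_le hn, pow_zero, Ideal.one_eq_top, top_smul]
    trivial
  obtain ⟨Q, _, π, P, _, _, σ, hπ, hker, hσ, hσ0, _⟩ := hlev n (by omega)
  let f : (Fin s → Q) →ₗ[Q] (Fin t → Q) := Fintype.linearCombination Q fun i j => π (W i j)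
  let x : (Fin t → Q) →ₗ[Q] P := Fintype.linearCombination Q fun j => σ (u j)
  have hxf : x ∘ₗ f = 0 := by
    refine LinearMap.pi_ext' fun i => LinearMap.ext_ring ?_
    simp only [LinearMap.comp_apply, LinearMap.coe_single, LinearMap.zero_comp, LinearMap.zero_apply, f, x]
    rw [Fintype.linearCombination_apply_single, one_smul, Fintype.linearCombination_apply]
    rw [← (hσ0 _).2 (hu i), map_sum]
    exact Finset.sum_congr rfl fun j _ => (σ.map_smulₛₗ _ _).symm
  obtain ⟨k, a, y, hxa, haf⟩ := Module.Flat.exists_factorization_of_comp_eq_zero_of_free hxf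
  choose α hα using fun (j : Fin t) (l : Fin k) => hπ (a (Pi.single j 1) l)
  choose y' hy' using fun l : Fin k => hσ (y (Finsupp.single l 1))
  have h1 : ∀ (l : Fin k) i, (Wl fun j => α j l) i ∈ J ^ n := fun l i => by
    rw [← hker, RingHom.mem_ker]
    have h := DFunLike.congr_fun (LinearMap.congr_fun haf (Pi.single i 1)) l
    simp only [LinearMap.comp_apply, LinearMap.zero_apply, Finsupp.coe_zero, Pi.zero_apply, f,
      Fintype.linearCombination_apply_single, one_smul] at h
    rw [pi_eq_sum_univ' (fun j => π (W i j)), map_sum, Finsupp.finsetSum_apply] at h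
    rw [← h]
    simp only [Wl, Matrix.mulVecLin_apply, Matrix.mulVec, dotProduct, map_sum, map_mul]
    exact Finset.sum_congr rfl fun j _ => by rw [map_smul, Finsupp.smul_apply, hα, smul_eq_mul]
  have h2 : ∀ l : Fin k, ∃ ε ∈ (J ^ (n - c) • ⊤ : Submodule A (Fin t → A)), Wl ε = Wl fun j => α j l := fun l => by
    have hm : Wl (fun j => α j l) ∈ J ^ (n - c) • LinearMap.range Wl := by
      have : Wl (fun j => α j l) ∈ J ^ n • ⊤ ⊓ LinearMap.range Wl := ⟨pi_mem_smul_top (h1 l), ⟨_, rfl⟩⟩
      rw [hc n hn.le] at this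
      exact smul_mono le_rfl inf_le_right this
    rwa [← Submodule.map_top, ← Submodule.map_smul'', Submodule.mem_map] at hm
  choose ε hε hWε using h2
  refine ⟨k, fun l j => α j l - ε l j, y', fun l i => ?_, fun j => ?_⟩
  · have := congrFun (sub_eq_zero.2 (hWε l).symm) i
    rw [← map_sub] at this
    simpa [Wl, Matrix.mulVec, dotProduct] using this
  · have h3 : u j - ∑ l, α j l • y' l ∈ (J ^ n • ⊤ : Submodule A N) := by
      refine (hσ0 _).1 ?_
      rw [map_sub, map_sum, sub_eq_zero]
      have := LinearMap.congr_fun hxa (Pi.single j 1)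
      simp only [LinearMap.comp_apply, x, Fintype.linearCombination_apply_single, one_smul] at this
      rw [this]
      conv_lhs => rw [← Finsupp.univ_sum_single (a (Pi.single j 1))]
      rw [map_sum]
      refine Finset.sum_congr rfl fun l _ => ?_
      rw [σ.map_smulₛₗ, hα, hy', ← map_smul, Finsupp.smul_single, smul_eq_mul, mul_one]
    have h4 : ∑ l, ε l j • y' l ∈ (J ^ (n - c) • ⊤ : Submodule A N) :=
      sum_mem fun l _ => smul_mem_smul (apply_mem_of_pi_smul_top (hε l) j) trivial
    have e : u j - ∑ l, (α j l - ε l j) • y' l = (u j - ∑ l, α j l • y' l) + ∑ l, ε l j • y' l := by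
      simp only [sub_smul, Finset.sum_sub_distrib]; abel
    rw [e]
    exact add_mem (smul_mono_left (Ideal.pow_le_pow_right (Nat.sub_le n c)) h3) h4

theorem flat_of_levels [IsAdicComplete J N] (hlev : LevelsFlat J N) : Module.Flat A N := by
  classical
  refine Module.Flat.iff_forall_isTrivialRelation.2 fun {l} {f x} hfx => ?_
  let fl : (Fin l → A) →ₗ[A] A := Fintype.linearCombination A f
  obtain ⟨t, w, hw⟩ := Submodule.fg_iff_exists_fin_generating_family.1 (IsNoetherian.noetherian (LinearMap.ker fl))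
  let W : Fin l → Fin t → A := fun i j => w j i
  obtain ⟨c₁, h₁⟩ := approx_kernel J hlev (fun (_ : Fin 1) => f)
  obtain ⟨c₂, h₂⟩ := approx_kernel J hlev W
  let Good : ℕ → (Fin t → N) → Prop := fun m U => ∀ i, ∑ j, W i j • U j - x i ∈ (J ^ m • ⊤ : Submodule A N)
  have hex : ∀ m, ∃ U, Good m U := fun m => by
    obtain ⟨k, κ, y, hκ, hxy⟩ := h₁ (m + c₁) x fun _ => by rw [hfx]; exact zero_mem _
    have : ∀ p : Fin k, ∃ b : Fin t → A, ∑ j, b j • w j = κ p := fun p => by
      have hp : κ p ∈ LinearMap.ker fl := by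
        rw [LinearMap.mem_ker]
        simp only [fl, Fintype.linearCombination_apply, smul_eq_mul]
        rw [← hκ p 0]
        exact Finset.sum_congr rfl fun j _ => mul_comm _ _
      rw [← hw] at hp
      exact (Submodule.mem_span_range_iff_exists_fun A).1 hp
    choose b hb using this
    refine ⟨fun j => ∑ p, b p j • y p, fun i => ?_⟩
    have e : ∑ j, W i j • ∑ p, b p j • y p = ∑ p, κ p i • y p := by
      simp only [Finset.smul_sum, smul_smul]
      rw [Finset.sum_comm]
      refine Finset.sum_congr rfl fun p _ => ?_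
      rw [← Finset.sum_smul, ← hb p]
      congr 1
      simp [W, Finset.sum_apply, mul_comm]
    have := hxy i
    rw [Nat.add_sub_cancel] at this
    rw [e]
    simpa using neg_mem this
  have step : ∀ m U, Good m U → ∃ U', Good (m + 1) U' ∧ ∀ j, U' j - U j ∈ (J ^ (m - c₂) • ⊤ : Submodule A N) := by
    intro m U hU
    obtain ⟨U', hU'⟩ := hex (m + 1)
    have hd : ∀ i, ∑ j, W i j • (U' j - U j) ∈ (J ^ m • ⊤ : Submodule A N) := fun i => by
      have := sub_mem (smul_mono_left (Ideal.pow_le_pow_right m.le_succ) (hU' i)) (hU i)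
      simpa [smul_sub] using this
    obtain ⟨k, κ, y, hκ, he⟩ := h₂ m (fun j => U' j - U j) hd
    refine ⟨fun j => U j + (U' j - U j - ∑ p, κ p j • y p), fun i => ?_, fun j => by simpa using he j⟩
    have e0 : ∑ j, W i j • ∑ p, κ p j • y p = 0 := by
      simp only [Finset.smul_sum, smul_smul]
      rw [Finset.sum_comm]
      refine Finset.sum_eq_zero fun p _ => ?_
      rw [← Finset.sum_smul, hκ p i, zero_smul]
    have e : ∑ j, W i j • (U j + (U' j - U j - ∑ p, κ p j • y p)) = ∑ j, W i j • U' j := by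
      rw [← sub_zero (∑ j, W i j • U' j), ← e0, ← Finset.sum_sub_distrib]
      exact Finset.sum_congr rfl fun j _ => by rw [← smul_sub]; congr 1; abel
    rw [e]
    exact hU' i
  choose U hU hUd using step
  obtain ⟨U0, hU0⟩ := hex 0
  let Useq : ℕ → {V : Σ' m : ℕ, Fin t → N // Good V.1 V.2} := fun m =>
    Nat.rec ⟨⟨0, U0⟩, hU0⟩ (fun _ V => ⟨⟨V.1.1 + 1, U V.1.1 V.1.2 V.2⟩, hU _ _ _⟩) m
  have hidx : ∀ m, (Useq m).1.1 = m := fun m => by
    induction m with
    | zero => rfl
    | succ m ih => exact congrArg (· + 1) ih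
  let S : ℕ → Fin t → N := fun m => (Useq m).1.2
  have hgood : ∀ m, Good m (S m) := fun m => by
    have := (Useq m).2
    rwa [hidx] at this
  have hinc : ∀ m j, S (m + 1) j - S m j ∈ (J ^ (m - c₂) • ⊤ : Submodule A N) := fun m j => by
    exact (congrArg (fun q : ℕ => (J ^ (q - c₂) • ⊤ : Submodule A N)) (hidx m)).le (hUd _ _ (Useq m).2 j)
  have hlim : ∀ j, ∃ L : N, ∀ m, S (m + c₂) j - L ∈ (J ^ m • ⊤ : Submodule A N) := fun j => by
    obtain ⟨L, hL⟩ := IsPrecomplete.prec (I := J) inferInstance (f := fun m => S (m + c₂) j) fun {a b} hab => by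
      induction b, hab using Nat.le_induction with
      | base => rfl
      | succ b hab ih =>
        refine ih.trans (SModEq.sub_mem.2 ?_)
        have := neg_mem (hinc (b + c₂) j)
        rw [neg_sub, Nat.add_sub_cancel, show b + c₂ + 1 = b + 1 + c₂ by omega] at this
        exact smul_mono_left (Ideal.pow_le_pow_right hab) this
    exact ⟨L, fun m => SModEq.sub_mem.1 (hL m)⟩
  choose L hL using hlim
  refine ⟨t, W, L, fun i => ?_, fun j => ?_⟩
  · symm
    rw [← sub_eq_zero]
    refine IsHausdorff.haus (I := J) inferInstance _ fun m => ?_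
    rw [SModEq.zero]
    have e : ∑ j, W i j • L j - x i = (∑ j, W i j • S (m + c₂) j - x i) - ∑ j, W i j • (S (m + c₂) j - L j) := by
      simp only [smul_sub, Finset.sum_sub_distrib]; abel
    rw [e]
    exact sub_mem (smul_mono_left (Ideal.pow_le_pow_right (Nat.le_add_right m c₂)) (hgood (m + c₂) i))
      (sum_mem fun j _ => smul_mem _ _ (hL j m))
  · have : fl (w j) = 0 := by
      rw [← LinearMap.mem_ker, ← hw]; exact subset_span ⟨j, rfl⟩
    rw [← this]
    simp [fl, W, Fintype.linearCombination_apply, mul_comm]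

end Groth.Agent.FlatCompletionLib
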